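import Mathlib.Algebra.MvPolynomial.Rename
import Mathlib.RingTheory.Localization.Away.Basic
import Mathlib.RingTheory.Invariant.Basic
import Mathlib.RingTheory.Smooth.StandardSmoothOfFree
import Mathlib.RingTheory.RingHom.Smooth
import Mathlib.Algebra.Ring.Action.Basic

/-!
# The ring of configurations of `n` distinct points on the line (helper748)

`B = ℤ[x_i][1/∏_{i ≠ j} (x_i - x_j)]` with the action of the permutations of the index set.
-/

set_option autoImplicit false
universe u

open MvPolynomial

namespace K748.Conf

variable (I : Type u) [Fintype I] [DecidableEq I]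

/-- The polynomial ring. -/
abbrev Pol := MvPolynomial I (ULift.{u} ℤ)

/-- The discriminant. -/
noncomputable def disc : Pol I := ∏ p : I × I, if p.1 = p.2 then 1 else X p.1 - X p.2

theorem rename_disc (g : Equiv.Perm I) : rename g (disc I) = disc I := by
  unfold disc
  rw [map_prod]
  refine Fintype.prod_equiv (g.prodCongr g) _ _ fun p => ?_
  simp only [Equiv.prodCongr_apply, Prod.map_fst, Prod.map_snd, EmbeddingLike.apply_eq_iff_eq]
  split_ifs with h
  · rw [map_one]
  · rw [map_sub, rename_X, rename_X]

/-- The ring of configurations. -/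
abbrev B := Localization.Away (disc I)

/-- A permutation acts. -/
noncomputable def actHom : Equiv.Perm I →* (B I →+* B I) where
  toFun g := IsLocalization.map (B I) (rename g : Pol I →ₐ[_] Pol I).toRingHom
    (M := Submonoid.powers (disc I)) (T := Submonoid.powers (disc I)) (by
      rw [Submonoid.powers_le]
      exact ⟨1, (pow_one _).trans (rename_disc I g).symm⟩)
  map_one' := by
    apply IsLocalization.ringHom_ext (Submonoid.powers (disc I))
    ext a
    · simp
    · simp
  map_mul' g h := by
    apply IsLocalization.ringHom_ext (Submonoid.powers (disc I))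
    ext a
    · simp
    · simp

theorem actHom_X (g : Equiv.Perm I) (i : I) :
    actHom I g (algebraMap (Pol I) (B I) (X i)) = algebraMap (Pol I) (B I) (X (g i)) := by
  simp [actHom]

theorem isUnit_sub {i j : I} (h : i ≠ j) :
    IsUnit (algebraMap (Pol I) (B I) (X i) - algebraMap (Pol I) (B I) (X j)) := by
  rw [← map_sub]
  refine isUnit_of_dvd_unit (map_dvd _ ?_) (IsLocalization.Away.algebraMap_isUnit (disc I))
  have := Finset.dvd_prod_of_mem (fun p : I × I => if p.1 = p.2 then (1 : Pol I) else X p.1 - X p.2)
    (Finset.mem_univ (i, j))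
  rw [if_neg h] at this
  exact this

theorem hom_ext {T : Type u} [CommRing T] {f f' : B I →+* T}
    (h : ∀ i, f (algebraMap (Pol I) (B I) (X i)) = f' (algebraMap (Pol I) (B I) (X i))) : f = f' := by
  apply IsLocalization.ringHom_ext (Submonoid.powers (disc I))
  refine MvPolynomial.ringHom_ext (fun r => ?_) (fun i => h i)
  have : (f.comp (algebraMap (Pol I) (B I))).comp (C.comp (ULift.ringEquiv.symm : ℤ ≃+* ULift.{u} ℤ).toRingHom) =
    (f'.comp (algebraMap (Pol I) (B I))).comp (C.comp (ULift.ringEquiv.symm : ℤ ≃+* ULift.{u} ℤ).toRingHom) :=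
    RingHom.ext_int _ _
  exact RingHom.congr_fun this r.down

theorem exists_hom {T : Type u} [CommRing T] (x : I → T) (h : ∀ i j, i ≠ j → IsUnit (x i - x j)) :
    ∃ f : B I →+* T, ∀ i, f (algebraMap (Pol I) (B I) (X i)) = x i := by
  let f₀ : Pol I →+* T := eval₂Hom ((Int.castRingHom T).comp ULift.ringEquiv.toRingHom) x
  have h0 : IsUnit (f₀ (disc I)) := by
    unfold disc
    rw [map_prod]
    refine IsUnit.prod_univ_iff.2 fun p => ?_
    split_ifs with hp
    · rw [map_one]; exact isUnit_one
    · rw [map_sub]
      simp only [f₀, coe_eval₂Hom, eval₂_X]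
      exact h _ _ hp
  refine ⟨IsLocalization.Away.lift (disc I) h0, fun i => ?_⟩
  rw [IsLocalization.Away.lift_eq]
  simp [f₀]

theorem smooth : (algebraMap (ULift.{u} ℤ) (B I)).Smooth := by
  have : Algebra.Smooth (Pol I) (B I) := Algebra.Smooth.of_isLocalization_Away (disc I)
  have : Algebra.Smooth (ULift.{u} ℤ) (Pol I) := ⟨inferInstance, inferInstance⟩
  rw [RingHom.smooth_algebraMap]
  exact Algebra.Smooth.comp (ULift.{u} ℤ) (Pol I) (B I)

end K748.Conf
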