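import Groth.Agent.AlgSp.K748.ConfT
import Mathlib.FieldTheory.Galois.Basic
import Mathlib.FieldTheory.PrimitiveElement
import Mathlib.FieldTheory.SplittingField.Construction

/-!
# Points of the configuration space and finite separable extensions (helper748)
-/

set_option autoImplicit false
universe u

open Polynomial

namespace K748.Conf

/-- The generic polynomial. -/
theorem exists_generic (I : Type u) [Fintype I] [DecidableEq I] : ∃ F : (A I)[X], F.map (algebraMap (A I) (B I)) =
    ∏ i : I, (X - C (algebraMap (Pol I) (B I) (MvPolynomial.X i))) := by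
  let Q : (B I)[X] := ∏ i : I, (X - C (algebraMap (Pol I) (B I) (MvPolynomial.X i)))
  have hQ : ∀ g, Q.map (actHom I g) = Q := fun g => by
    rw [Polynomial.map_prod]
    refine Fintype.prod_equiv g _ _ fun i => ?_
    rw [Polynomial.map_sub, Polynomial.map_X, Polynomial.map_C, actHom_X]
  have h : Q ∈ Polynomial.lifts (algebraMap (A I) (B I)) := by
    rw [Polynomial.lifts_iff_coeff_lifts]
    intro m
    refine ⟨⟨Q.coeff m, fun g => ?_⟩, rfl⟩
    rw [← Polynomial.coeff_map, hQ]
  exact h

theorem exists_index (k κ : Type u) [Field k] [Field κ] [Algebra k κ] [FiniteDimensional k κ]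
    [Algebra.IsSeparable k κ] : ∃ (n : ℕ) (c : A (ULift.{u} (Fin n)) →+* k) (i₀ : ULift.{u} (Fin n)) (θ : κ),
      (∀ (T : Type u) [CommRing T] (e e' : κ →+* T), e.comp (algebraMap k κ) = e'.comp (algebraMap k κ) →
        e θ = e' θ → e = e') ∧
      ∀ (T : Type u) [CommRing T] (a : k →+* T) (b : B (ULift.{u} (Fin n)) →+* T),
        a.comp c = b.comp (algebraMap (A (ULift.{u} (Fin n))) (B (ULift.{u} (Fin n)))) →
        ∃ e : κ →+* T, e.comp (algebraMap k κ) = a ∧
          e θ = b (algebraMap (Pol (ULift.{u} (Fin n))) (B (ULift.{u} (Fin n))) (MvPolynomial.X i₀)) := by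
  classical
  let pb := Field.powerBasisOfFiniteOfSeparable k κ
  let f := minpoly k pb.gen
  have hf : f.Separable := Algebra.IsSeparable.isSeparable k pb.gen
  have hf0 : f ≠ 0 := hf.ne_zero
  let L := f.SplittingField
  have hG : IsGalois k L := IsGalois.of_separable_splitting_field hf
  let n := Fintype.card (f.rootSet L)
  let I := ULift.{u} (Fin n)
  let e : I ≃ f.rootSet L := Equiv.ulift.trans (Fintype.equivFin (f.rootSet L)).symm
  let x : I → L := fun i => (e i).1
  have hx : Function.Injective x := fun i j h => e.injective (Subtype.ext h)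
  obtain ⟨φ, hφ⟩ := exists_hom I x (fun i j h => by
    rw [isUnit_iff_ne_zero, sub_ne_zero]
    exact fun e => h (hx e))
  have hfix : ∀ a : A I, ∃ y : k, algebraMap k L y = φ a := by
    intro a
    refine (IsGalois.mem_range_algebraMap_iff_fixed (φ a)).2 fun σ => ?_
    have hσ : ∀ i, ∃ j, x j = σ (x i) := fun i => by
      refine ⟨e.symm ⟨σ (x i), ?_⟩, ?_⟩
      · rw [Polynomial.mem_rootSet]
        refine ⟨hf0, ?_⟩
        rw [Polynomial.aeval_algHom_apply σ, (Polynomial.mem_rootSet.1 (e i).2).2, map_zero]
      · change (e (e.symm _)).1 = _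
        rw [Equiv.apply_symm_apply]
    choose g hg using hσ
    have hginj : Function.Injective g := fun i j h => by
      apply hx
      apply σ.injective
      rw [← hg, ← hg, h]
    let g' : Equiv.Perm I := Equiv.ofBijective g (Finite.injective_iff_bijective.1 hginj)
    have h1 : (σ : L →+* L).comp φ = φ.comp (actHom I g') := by
      apply hom_ext
      intro i
      rw [RingHom.comp_apply, RingHom.comp_apply, hφ, actHom_X, hφ]
      exact (hg i).symm
    have h2 := RingHom.congr_fun h1 a
    rw [RingHom.comp_apply, RingHom.comp_apply, a.2 g'] at h2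
    exact h2
  choose c hc using hfix
  have hinj : Function.Injective (algebraMap k L) := (algebraMap k L).injective
  let c' : A I →+* k :=
    { toFun := c
      map_one' := hinj (by rw [hc, map_one]; exact map_one φ)
      map_mul' := fun a b => hinj (by rw [hc, map_mul, hc, hc]; exact map_mul φ _ _)
      map_zero' := hinj (by rw [hc, map_zero]; exact map_zero φ)
      map_add' := fun a b => hinj (by rw [hc, map_add, hc, hc]; exact map_add φ _ _) }
  have hc' : (algebraMap k L).comp c' = φ.comp (algebraMap (A I) (B I)) := RingHom.ext fun a => hc a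
  obtain ⟨F, hF⟩ := exists_generic I
  have hdvd : F.map c' ∣ f := by
    rw [← Polynomial.map_dvd_map' (algebraMap k L), Polynomial.map_map, hc', ← Polynomial.map_map, hF,
      Polynomial.map_prod]
    refine Finset.prod_dvd_of_coprime ?_ fun i _ => ?_
    · rintro i - j - hij
      change IsCoprime (Polynomial.map φ _) (Polynomial.map φ _)
      rw [Polynomial.map_sub, Polynomial.map_sub, Polynomial.map_X, Polynomial.map_C, Polynomial.map_C, hφ, hφ]
      exact Polynomial.pairwise_coprime_X_sub_C hx hij
    · rw [Polynomial.map_sub, Polynomial.map_X, Polynomial.map_C, hφ, Polynomial.dvd_iff_isRoot]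
      have := (Polynomial.mem_rootSet.1 (e i).2).2
      rw [Polynomial.IsRoot, Polynomial.eval_map, ← Polynomial.aeval_def]
      exact this
  obtain ⟨i₀⟩ : Nonempty I := by
    have hs : (f.map (algebraMap k L)).Splits := Polynomial.SplittingField.splits f
    have hd : (f.map (algebraMap k L)).degree ≠ 0 := by
      rw [Polynomial.degree_map]
      exact (minpoly.degree_pos (IsIntegral.of_finite k pb.gen)).ne'
    obtain ⟨r, hr⟩ := hs.exists_eval_eq_zero hd
    refine ⟨e.symm ⟨r, ?_⟩⟩
    rw [Polynomial.mem_rootSet]
    refine ⟨hf0, ?_⟩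
    rw [Polynomial.aeval_def, ← Polynomial.eval_map]
    exact hr
  refine ⟨n, c', i₀, pb.gen, fun T _ e₁ e₂ h1 h2 => ?_, fun T _ a b hab => ?_⟩
  · let _ : Algebra k T := (e₁.comp (algebraMap k κ)).toAlgebra
    let E₁ : κ →ₐ[k] T := { e₁ with commutes' := fun r => rfl }
    let E₂ : κ →ₐ[k] T := { e₂ with commutes' := fun r => (RingHom.congr_fun h1 r).symm }
    have : E₁ = E₂ := pb.algHom_ext h2
    exact congrArg (fun z : κ →ₐ[k] T => (z : κ →+* T)) this
  · let _ : Algebra k T := a.toAlgebra
    have hroot : aeval (b (algebraMap (Pol I) (B I) (MvPolynomial.X i₀))) (minpoly k pb.gen) = 0 := by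
      obtain ⟨q, hq⟩ := hdvd
      change aeval _ f = 0
      rw [hq, map_mul]
      have : aeval (b (algebraMap (Pol I) (B I) (MvPolynomial.X i₀))) (F.map c') = 0 := by
        rw [Polynomial.aeval_def, Polynomial.eval₂_map]
        change Polynomial.eval₂ (a.comp c') _ F = 0
        rw [hab, ← Polynomial.hom_eval₂, ← Polynomial.eval_map, hF, Polynomial.eval_prod]
        rw [Finset.prod_eq_zero (Finset.mem_univ i₀), map_zero]
        rw [Polynomial.eval_sub, Polynomial.eval_X, Polynomial.eval_C, sub_self]
      rw [this, zero_mul]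
    refine ⟨(pb.lift _ hroot : κ →ₐ[k] T), ?_, ?_⟩
    · ext r
      exact (pb.lift _ hroot).commutes r
    · exact pb.lift_gen _ hroot

end K748.Conf
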