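import Groth.Agent.AlgSp.K748.ConfPt

/-!
# Points of the configuration space: scheme-theoretic form (helper748)
-/

set_option autoImplicit false
universe u

open CategoryTheory CategoryTheory.Limits AlgebraicGeometry Opposite

namespace K748.Conf

/-- The morphism to an affine scheme of a ring map. -/
noncomputable def mkSec {X : Scheme.{u}} {B : Type u} [CommRing B] (e : B →+* Γ(X, ⊤)) : X ⟶ Spec (.of B) :=
  X.toSpecΓ ≫ Spec.map (CommRingCat.ofHom e)

theorem sec_mkSec {X : Scheme.{u}} {B : Type u} [CommRing B] (e : B →+* Γ(X, ⊤)) : FreeQ.sec (mkSec e) = e := by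
  have h : FreeQ.sec (B := Γ(X, ⊤)) X.toSpecΓ = RingHom.id _ := by
    unfold FreeQ.sec
    rw [Scheme.toSpecΓ_appTop]
    simp
  rw [mkSec]
  refine (FreeQ.sec_specMap (B := Γ(X, ⊤)) X.toSpecΓ e).trans ?_
  rw [h, RingHom.id_comp]

variable {S : Scheme.{u}} (k κ : Type u) [Field k] [Field κ] [Algebra k κ] (sk : Spec (.of k) ⟶ S)

/-- `Spec κ` over `Spec k`. -/
noncomputable abbrev toK : Over.mk (Spec.map (CommRingCat.ofHom (algebraMap k κ)) ≫ sk) ⟶ Over.mk sk :=
  Over.homMk (Spec.map (CommRingCat.ofHom (algebraMap k κ))) rfl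

theorem exists_conf_point [FiniteDimensional k κ] [Algebra.IsSeparable k κ] :
    ∃ (n : ℕ) (c : Over.mk sk ⟶ P (ULift.{u} (Fin n)) S)
      (Q : ∀ W : Over S, (W ⟶ Over.mk (Spec.map (CommRingCat.ofHom (algebraMap k κ)) ≫ sk)) →
        (W ⟶ D (ULift.{u} (Fin n)) S) → Prop),
      (∀ (W W' : Over S) (v : W' ⟶ W) (e : W ⟶ _) (d : W ⟶ _), Q W e d → Q W' (v ≫ e) (v ≫ d)) ∧
      ∀ (W : Over S) (w : W ⟶ Over.mk sk) (d : W ⟶ D (ULift.{u} (Fin n)) S), w ≫ c = d ≫ π _ S →
        ∃! e : W ⟶ Over.mk (Spec.map (CommRingCat.ofHom (algebraMap k κ)) ≫ sk), e ≫ toK k κ sk = w ∧ Q W e d := by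
  obtain ⟨n, c', i₀, θ, huniq, hex⟩ := exists_index k κ
  refine ⟨n, pt (Spec.map (CommRingCat.ofHom c')), fun W e d => FreeQ.sec (B := κ) e.left θ =
    FreeQ.sec (B := B (ULift.{u} (Fin n))) (snd d) (algebraMap (Pol (ULift.{u} (Fin n))) (B (ULift.{u} (Fin n)))
      (MvPolynomial.X i₀)), ?_, ?_⟩
  · intro W W' v e d h
    rw [snd_comp, FreeQ.sec_comp, RingHom.comp_apply, Over.comp_left, FreeQ.sec_comp, RingHom.comp_apply, h]
  · intro W w d h
    have h1 : (FreeQ.sec (B := k) w.left).comp c' = (FreeQ.sec (B := B (ULift.{u} (Fin n))) (snd d)).comp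
        (algebraMap (A (ULift.{u} (Fin n))) (B (ULift.{u} (Fin n)))) := by
      rw [← FreeQ.sec_specMap, ← FreeQ.sec_specMap, ← snd_bsMap, ← h, snd_comp, snd_pt]
    obtain ⟨e, he1, he2⟩ := hex _ _ _ h1
    have h2 : mkSec e ≫ Spec.map (CommRingCat.ofHom (algebraMap k κ)) = w.left := by
      apply FreeQ.sec_ext (B := k)
      rw [FreeQ.sec_specMap, sec_mkSec, he1]
    refine ⟨Over.homMk (mkSec e) ?_, ⟨?_, ?_⟩, ?_⟩
    · change mkSec e ≫ Spec.map (CommRingCat.ofHom (algebraMap k κ)) ≫ sk = W.hom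
      rw [← Category.assoc, h2]
      exact Over.w w
    · ext : 1
      exact h2
    · change FreeQ.sec (mkSec e) θ = _
      rw [sec_mkSec, he2]
    · rintro e' ⟨h3, h4⟩
      ext : 1
      change e'.left = mkSec e
      apply FreeQ.sec_ext (B := κ)
      rw [sec_mkSec]
      apply huniq
      · rw [he1, ← FreeQ.sec_specMap, ← h3]
        rfl
      · rw [he2]
        exact h4

end K748.Conf
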