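import Groth.Agent.AlgSp.K613.Diag
import Groth.Agent.Sga3.H812.Gal
import Groth.Agent.Flat2G.EtaleSource
import Mathlib.AlgebraicGeometry.Morphisms.Etale

/-!
# Quotients of affine charts by free actions of finite groups

`B` an `R`-algebra with a free action of the finite group `G`, `A = B^G`.  A `G`-invariant map `h_{Spec B} ⟶ F` to a
sheaf descends to `h_{Spec A} ⟶ F`; it is étale when the given map is and the diagonal of `F` is representable.
-/

set_option autoImplicit false
universe u

open CategoryTheory CategoryTheory.Limits AlgebraicGeometry Opposite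

namespace K748.FreeQ

open AlgSp

variable {S : Scheme.{u}} {F : Sp S}

section sec

variable {X Y : Scheme.{u}} {B A : Type u} [CommRing B] [CommRing A]

/-- The ring map of a morphism to `Spec B`. -/
noncomputable def sec (f : X ⟶ Spec (.of B)) : B →+* Γ(X, ⊤) := ((Scheme.ΓSpecIso (.of B)).inv ≫ f.appTop).hom

theorem sec_ext {f g : X ⟶ Spec (.of B)} (h : sec f = sec g) : f = g := by
  apply ext_of_isAffine
  have h' : (Scheme.ΓSpecIso (.of B)).inv ≫ f.appTop = (Scheme.ΓSpecIso (.of B)).inv ≫ g.appTop :=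
    CommRingCat.hom_ext h
  exact (cancel_epi _).1 h'

theorem sec_comp (h : Y ⟶ X) (f : X ⟶ Spec (.of B)) : sec (h ≫ f) = h.appTop.hom.comp (sec f) := by
  unfold sec
  rw [Scheme.Hom.comp_appTop, ← Category.assoc]
  rfl

theorem sec_specMap (f : X ⟶ Spec (.of B)) (φ : A →+* B) :
    sec (f ≫ Spec.map (CommRingCat.ofHom φ)) = (sec f).comp φ := by
  unfold sec
  rw [Scheme.Hom.comp_appTop, ← Category.assoc, ← Scheme.ΓSpecIso_inv_naturality, Category.assoc]
  rfl

/-- Every point lies in one of the basic opens of a partition of unity. -/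
theorem exists_mem_basicOpen {ι : Type*} [Fintype ι] (c : ι → Γ(X, ⊤)) (hc : ∑ i, c i = 1) (t : X) :
    ∃ i, t ∈ X.basicOpen (c i) := by
  by_contra hcon
  push Not at hcon
  have h1 : ∀ i, X.presheaf.germ ⊤ t trivial (c i) ∈ IsLocalRing.maximalIdeal (X.presheaf.stalk t) := fun i => by
    rw [IsLocalRing.mem_maximalIdeal, mem_nonunits_iff]
    intro hu
    exact hcon i ((Scheme.mem_basicOpen X (c i) t trivial).2 hu)
  have h2 : X.presheaf.germ ⊤ t trivial (∑ i, c i) ∈ IsLocalRing.maximalIdeal (X.presheaf.stalk t) := by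
    rw [map_sum]; exact sum_mem fun i _ => h1 i
  rw [hc, map_one] at h2
  exact (IsLocalRing.maximalIdeal.isMaximal _).ne_top ((Ideal.eq_top_iff_one _).2 h2)

theorem eq_on_basicOpen (c : Γ(X, ⊤)) {x y : Γ(X, ⊤)} (h : c * x = c * y) :
    (X.basicOpen c).ι.appTop x = (X.basicOpen c).ι.appTop y := by
  have hu : IsUnit ((X.basicOpen c).ι.appTop c) := by
    rw [Scheme.Opens.ι_appTop]
    have h1 := X.toRingedSpace.isUnit_res_basicOpen c
    have h2 : X.presheaf.map (homOfLE (x := (X.basicOpen c).ι ''ᵁ ⊤) (y := ⊤) le_top).op =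
        X.presheaf.map (homOfLE (X.basicOpen_le c)).op ≫
          X.presheaf.map (homOfLE (x := (X.basicOpen c).ι ''ᵁ ⊤) (y := X.basicOpen c) (by simp)).op := by
      rw [← Functor.map_comp]; rfl
    rw [h2]
    exact h1.map (X.presheaf.map (homOfLE (x := (X.basicOpen c).ι ''ᵁ ⊤) (y := X.basicOpen c) (by simp)).op).hom
  have := congrArg ((X.basicOpen c).ι.appTop).hom h
  erw [map_mul, map_mul] at this
  exact hu.mul_left_cancel this

end sec

section

variable {R B A G : Type u} [CommRing R] [CommRing B] [CommRing A] [Algebra R B] [Algebra R A] [Algebra A B]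
  [IsScalarTower R A B] [Group G] [MulSemiringAction G B] [SMulCommClass G R B] [SMulCommClass G A B]
  (j : Spec (.of R) ⟶ S)

/-- `Spec B` as a scheme over `S`. -/
noncomputable abbrev sp (B : Type u) [CommRing B] [Algebra R B] : Over S :=
  Over.mk (Spec.map (CommRingCat.ofHom (algebraMap R B)) ≫ j)

/-- The action of `g` on `Spec B`. -/
noncomputable def act (g : G) : sp j B ⟶ sp j B :=
  Over.homMk (Spec.map (CommRingCat.ofHom (MulSemiringAction.toRingHom G B g))) (by
    dsimp
    rw [← Category.assoc, ← Spec.map_comp, ← CommRingCat.ofHom_comp]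
    congr 3
    ext r
    simp)

/-- The quotient map `Spec B ⟶ Spec A`. -/
noncomputable def q : sp j B ⟶ sp j A :=
  Over.homMk (Spec.map (CommRingCat.ofHom (algebraMap A B))) (by
    dsimp
    rw [← Category.assoc, ← Spec.map_comp, ← CommRingCat.ofHom_comp]
    congr 3
    exact (IsScalarTower.algebraMap_eq R A B).symm)

theorem act_q (g : G) : act j g ≫ (q j : sp j B ⟶ sp j A) = q j := by
  ext : 1
  change Spec.map (CommRingCat.ofHom (MulSemiringAction.toRingHom G B g)) ≫
    Spec.map (CommRingCat.ofHom (algebraMap A B)) = Spec.map (CommRingCat.ofHom (algebraMap A B))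
  rw [← Spec.map_comp, ← CommRingCat.ofHom_comp]
  congr 2
  ext r
  simp

variable (hfree : ∀ g : G, g ≠ 1 → ∀ M : Ideal B, M.IsMaximal → ∃ b, g • b - b ∉ M)
  (hinj : Function.Injective (algebraMap A B))

include hfree hinj

omit [SMulCommClass G R B] [Algebra R B] [Algebra R A] [IsScalarTower R A B] in
theorem etale_spec [Finite G] [Algebra.IsInvariant A B G] :
    Etale (Spec.map (CommRingCat.ofHom (algebraMap A B))) := by
  have h := Groth.Agent.Sga1.FreeQuot.etale_of_free hinj hfree
  rw [HasRingHomProperty.Spec_iff (P := @Etale)]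
  exact (RingHom.etale_algebraMap).2 h

omit [SMulCommClass G R B] [Algebra R B] [Algebra R A] [IsScalarTower R A B] hfree in
theorem surj_spec [Finite G] [Algebra.IsInvariant A B G] :
    Surjective (Spec.map (CommRingCat.ofHom (algebraMap A B))) := by
  have h : Algebra.IsIntegral A B := Algebra.IsInvariant.isIntegral A B G
  have : FaithfulSMul A B := (faithfulSMul_iff_algebraMap_injective A B).2 hinj
  exact ⟨Algebra.IsIntegral.comap_surjective A B⟩

omit [SMulCommClass G R B] in
theorem etC_q [Finite G] [Algebra.IsInvariant A B G] : K613.Cover.EtC (q j : sp j B ⟶ sp j A) where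
  etale := etale_spec hfree hinj
  surj := surj_spec (G := G) hinj

/-- Two points of `Spec B` with the same image in `Spec A` differ by the group, locally. -/
theorem exists_cover [Fintype G] [Algebra.IsInvariant A B G] {T : Over S} (a b : T ⟶ sp j B)
    (hab : a ≫ (q j : sp j B ⟶ sp j A) = b ≫ q j) :
    ∃ c : G → Γ(T.left, ⊤), ∑ g, c g = 1 ∧ ∀ g,
      (Over.homMk (T.left.basicOpen (c g)).ι rfl : Over.mk ((T.left.basicOpen (c g)).ι ≫ T.hom) ⟶ T) ≫ a =
        Over.homMk (T.left.basicOpen (c g)).ι rfl ≫ b ≫ act j g := by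
  have h1 : (sec (B := B) a.left).comp (algebraMap A B) = (sec (B := B) b.left).comp (algebraMap A B) := by
    rw [← sec_specMap, ← sec_specMap]
    exact congrArg (sec (B := A)) (congrArg (fun z => Over.Hom.left z) hab)
  obtain ⟨c, hc, hc'⟩ := Groth.Agent.Sga3.H812.Gal.exists_idem (A := A) (B := B) (G := G) hinj hfree
    (sec (B := B) a.left) (sec (B := B) b.left) h1
  refine ⟨c, hc, fun g => ?_⟩
  ext : 1
  apply sec_ext (B := B)
  ext r
  change sec (B := B) ((T.left.basicOpen (c g)).ι ≫ a.left) r =
    sec (B := B) ((T.left.basicOpen (c g)).ι ≫ b.left ≫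
      Spec.map (CommRingCat.ofHom (MulSemiringAction.toRingHom G B g))) r
  rw [sec_comp, sec_comp, sec_specMap]
  exact eq_on_basicOpen (c g) (hc' g r)

/-- A `G`-invariant map to a sheaf descends to the quotient. -/
theorem exists_desc [Finite G] [Algebra.IsInvariant A B G] (p : (yon S).obj (sp j B) ⟶ F)
    (hp : ∀ g : G, (yon S).map (act j g) ≫ p = p) :
    ∃! a : (yon S).obj (sp j A) ⟶ F, (yon S).map (q j) ≫ a = p := by
  have := Fintype.ofFinite G
  refine (etC_q j hfree hinj).fpC.glue p fun T a b hab => ?_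
  obtain ⟨c, hc, hc'⟩ := exists_cover j hfree hinj a b hab
  obtain ⟨y, -, hy⟩ := K613.Basic.glueFam (F := F) (T := T) (ι := G)
    (fun g => Over.mk ((T.left.basicOpen (c g)).ι ≫ T.hom)) (fun g => Over.homMk (T.left.basicOpen (c g)).ι rfl)
    (fun g => inferInstanceAs (Flat (T.left.basicOpen (c g)).ι))
    (fun g => inferInstanceAs (LocallyOfFinitePresentation (T.left.basicOpen (c g)).ι))
    (fun t => by
      obtain ⟨g, hg⟩ := exists_mem_basicOpen c hc t
      exact ⟨g, ⟨t, hg⟩, rfl⟩)
    (fun g => (yon S).map (Over.homMk (T.left.basicOpen (c g)).ι rfl) ≫ (yon S).map a ≫ p)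
    (fun g g' V v v' h => by
      simp only [← Category.assoc, ← Functor.map_comp, h])
  rw [hy ((yon S).map a ≫ p) fun g => rfl, hy ((yon S).map b ≫ p) fun g => ?_]
  have e := congrArg (fun z => (yon S).map z ≫ p) (hc' g)
  simp only [Functor.map_comp, Category.assoc, hp] at e
  exact e.symm

omit hfree hinj in
/-- Étaleness of a map from a scheme descends along étale surjective maps of the source. -/
theorem repWith_etale_of_cover (hF : Representable (Limits.diag F)) {V V' : Over S} {c : V' ⟶ V}
    (hc : K613.Cover.EtC c) (a : (yon S).obj V ⟶ F) (h : RepWith @Etale ((yon S).map c ≫ a)) :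
    RepWith @Etale a := by
  refine ⟨Functor.relativelyRepresentable.of_diag hF a, fun T W g fst snd sq => ?_⟩
  obtain ⟨f, rfl⟩ := (yon S).map_surjective fst
  have sq2 : IsPullback (pullback.fst f c) (pullback.snd f c) f c := IsPullback.of_hasPullback _ _
  have sq3 := (sq2.map (yon S)).flip.paste_vert sq
  rw [← Functor.map_comp] at sq3
  have h1 : Etale ((pullback.fst f c).left ≫ snd.left) := h.2 g _ _ sq3
  have h2 := hc.of_isPullback sq2.flip
  have := h2.etale
  have := h2.surj
  exact Groth.Agent.Flat2G.EtaleSource.etale_of_comp (pullback.fst f c).left snd.left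

/-- The quotient chart. -/
theorem exists_chart [Finite G] [Algebra.IsInvariant A B G] (hF : Representable (Limits.diag F))
    (p : (yon S).obj (sp j B) ⟶ F) (hp : ∀ g : G, (yon S).map (act j g) ≫ p = p) (hpe : RepWith @Etale p) :
    ∃ a : (yon S).obj (sp j A) ⟶ F, (yon S).map (q j) ≫ a = p ∧ RepWith @Etale a := by
  obtain ⟨a, ha, -⟩ := exists_desc j hfree hinj p hp
  exact ⟨a, ha, repWith_etale_of_cover hF (etC_q j hfree hinj) a (by rw [ha]; exact hpe)⟩

end

end K748.FreeQ
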