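import Groth.Agent.AlgSp.K748.Weil
import Groth.Agent.AlgSp.K597.LocP
import Groth.Agent.AlgSp.K597.EtLoc
import Groth.Agent.AlgSp.K594.Bootstrap
import Groth.Agent.AlgSp.K608.Comp
import Groth.Agent.AlgSp.K609.Points

/-!
# Multisections along a torsor `D ⟶ P`: representability and smoothness (helper748)
-/

set_option autoImplicit false
universe w u

open CategoryTheory CategoryTheory.Limits AlgebraicGeometry Opposite

namespace K748.Weil

open AlgSp

variable {S : Scheme.{u}} {B P D : Over S}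

/-- `D ⟶ P` is a torsor under the finite group (set) `G`, in the form needed here: two points of `D` over the same point
of `P` are locally related by a unique element of `G`. -/
structure Tors (G : Type w) (π : D ⟶ P) where
  α : G → (D ⟶ D)
  α_π : ∀ g, α g ≫ π = π
  cover : ∀ (W : Over S) (d₁ d₂ : W ⟶ D), d₁ ≫ π = d₂ ≫ π → ∃ R ∈ J S W, ∀ (V : Over S) (v : V ⟶ W), R v →
    ∃ g, v ≫ d₂ = v ≫ d₁ ≫ α g
  free : ∀ (W : Over S) (d : W ⟶ D) (g h : G), d ≫ α g = d ≫ α h → g ≠ h → IsEmpty W.left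

/-- `Q` is the product of `h_D` with the `I`-fold fibre power of `F` over `h_B`. -/
structure IsPow (I : Type w) (D : Over S) {F : Sp S} (φ : F ⟶ (yon S).obj B) (Q : Sp S) (q₁ : Q ⟶ (yon S).obj B)
    (q₂ : Q ⟶ (yon S).obj D) (f : I → (Q ⟶ F)) : Prop where
  w : ∀ i, f i ≫ φ = q₁
  univ : ∀ (T : Over S) (b : T ⟶ B) (d : T ⟶ D) (x : I → F.obj.obj (op T)), (∀ i, φ.hom.app (op T) (x i) = ⟨b⟩) →
    ∃! q : Q.obj.obj (op T), q₁.hom.app (op T) q = ⟨b⟩ ∧ q₂.hom.app (op T) q = ⟨d⟩ ∧ ∀ i, (f i).hom.app (op T) q = x i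

theorem app_comp {X Y Z : Sp S} (f : X ⟶ Y) (g : Y ⟶ Z) (T : (Over S)ᵒᵖ) (x : X.obj.obj T) :
    (f ≫ g).hom.app T x = g.hom.app T (f.hom.app T x) := rfl

theorem section_ext_yon {U T : Over S} (x y : ((yon S).obj U).obj.obj (op T)) (h : x.down = y.down) : x = y :=
  congrArg ULift.up h

theorem smooth_fst (hD : Smooth D.hom) : Smooth (prod.fst : B ⨯ D ⟶ B).left := by
  have sq : IsPullback (prod.fst : B ⨯ D ⟶ B) prod.snd (Over.mkIdTerminal.from B) (Over.mkIdTerminal.from D) :=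
    IsPullback.of_isLimit_binaryFan_of_isTerminal (limit.isLimit _) Over.mkIdTerminal
  have sq' := sq.map (Over.forget S)
  have h1 : Smooth (Over.mkIdTerminal.from D).left := by
    have e : (Over.mkIdTerminal.from D).left = D.hom := by
      simp
    rw [e]
    exact hD
  exact MorphismProperty.of_isPullback (P := @Smooth) sq'.flip h1

theorem locP_smooth_yon {U V : Over S} {c : U ⟶ V} (hc : Smooth c.left) : LocP @Smooth ((yon S).map c) :=
  K597.locP_of_repWith K597.etLoc_smooth.precomp ((repWith_yon_map_iff _ _).2 hc)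

theorem exists_pow {F : Sp S} (hF : IsAlgSpace F) (φ : F ⟶ (yon S).obj B) (hφ : LocP @Smooth φ) (hD : Smooth D.hom)
    (I : Type w) [Finite I] : ∃ (Q : Sp S) (q₁ : Q ⟶ (yon S).obj B) (q₂ : Q ⟶ (yon S).obj D) (f : I → (Q ⟶ F)),
      IsAlgSpace Q ∧ LocP @Smooth q₁ ∧ IsPow I D φ Q q₁ q₂ f := by
  induction I using Finite.induction_empty_option with
  | of_equiv e ih =>
    obtain ⟨Q, q₁, q₂, f, h1, h2, h3⟩ := ih
    refine ⟨Q, q₁, q₂, fun i => f (e.symm i), h1, h2, fun i => h3.w _, fun T b d x hx => ?_⟩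
    obtain ⟨q, ⟨hq1, hq2, hq3⟩, hq⟩ := h3.univ T b d (fun i => x (e i)) (fun i => hx _)
    refine ⟨q, ⟨hq1, hq2, fun i => ?_⟩, fun q' ⟨h4, h5, h6⟩ => hq q' ⟨h4, h5, fun i => ?_⟩⟩
    · rw [hq3, e.apply_symm_apply]
    · rw [← h6, e.symm_apply_apply]
  | h_empty =>
    refine ⟨(yon S).obj (B ⨯ D), (yon S).map prod.fst, (yon S).map prod.snd, fun i => i.elim, IsAlgSpace.yon_obj _,
      locP_smooth_yon (smooth_fst hD), fun i => i.elim, fun T b d x hx => ?_⟩
    refine ⟨⟨prod.lift b d⟩, ⟨?_, ?_, fun i => i.elim⟩, fun q' ⟨h4, h5, _⟩ => ?_⟩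
    · exact section_ext_yon _ _ (prod.lift_fst b d)
    · exact section_ext_yon _ _ (prod.lift_snd b d)
    · apply section_ext_yon
      have e1 : q'.down ≫ prod.fst = b := congrArg ULift.down h4
      have e2 : q'.down ≫ prod.snd = d := congrArg ULift.down h5
      change q'.down = prod.lift b d
      apply Limits.prod.hom_ext
      · rw [e1, prod.lift_fst]
      · rw [e2, prod.lift_snd]
  | h_option ih =>
    rename_i I _
    obtain ⟨Q, q₁, q₂, f, h1, h2, h3⟩ := ih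
    have sq := IsPullback.of_hasPullback q₁ φ
    have hQ' : IsAlgSpace (pullback q₁ φ) := K608.Comp.isAlgSpace_pullback q₁ φ h1 hF (IsAlgSpace.yon_obj B)
    refine ⟨pullback q₁ φ, pullback.fst q₁ φ ≫ q₁, pullback.fst q₁ φ ≫ q₂,
      fun i => i.elim (pullback.snd q₁ φ) (fun i => pullback.fst q₁ φ ≫ f i), hQ', ?_, ?_, ?_⟩
    · exact K597.locP_comp K597.etLoc_smooth hQ'.hasAtlas h1.hasAtlas (IsAlgSpace.yon_obj B).hasAtlas
        (K597.locP_bc K597.etLoc_smooth sq.flip hF.hasAtlas (IsAlgSpace.yon_obj B).hasAtlas h1.hasAtlas hφ) h2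
    · rintro (_ | i)
      · exact sq.w.symm
      · change (pullback.fst q₁ φ ≫ f i) ≫ φ = _
        rw [Category.assoc, h3.w]
    · intro T b d x hx
      obtain ⟨q, ⟨hq1, hq2, hq3⟩, hq⟩ := h3.univ T b d (fun i => x (some i)) (fun i => hx _)
      obtain ⟨p, hp1, hp2⟩ := K609.Points.exists_section_of_isPullback sq T q (x none) (by rw [hq1, hx])
      refine ⟨p, ⟨?_, ?_, ?_⟩, fun q' ⟨h4, h5, h6⟩ => ?_⟩
      · rw [app_comp, hp1, hq1]
      · rw [app_comp, hp1, hq2]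
      · rintro (_ | i)
        · exact hp2
        · change (pullback.fst q₁ φ ≫ f i).hom.app _ p = _
          rw [app_comp, hp1, hq3]
      · apply K609.Points.section_ext_of_isPullback sq T
        · rw [hp1]
          exact hq _ ⟨h4, h5, fun i => h6 (some i)⟩
        · rw [hp2]
          exact h6 none

theorem IsPow.univ' {I : Type w} {F : Sp S} {φ : F ⟶ (yon S).obj B} {Q : Sp S} {q₁ : Q ⟶ (yon S).obj B}
    {q₂ : Q ⟶ (yon S).obj D} {f : I → (Q ⟶ F)} (h : IsPow I D φ Q q₁ q₂ f) (T : (Over S)ᵒᵖ)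
    (β : ((yon S).obj B).obj.obj T) (δ : ((yon S).obj D).obj.obj T) (x : I → F.obj.obj T)
    (hx : ∀ i, φ.hom.app T (x i) = β) :
    ∃! q : Q.obj.obj T, q₁.hom.app T q = β ∧ q₂.hom.app T q = δ ∧ ∀ i, (f i).hom.app T q = x i :=
  h.univ T.unop β.down δ.down x hx

theorem IsPow.w' {I : Type w} {F : Sp S} {φ : F ⟶ (yon S).obj B} {Q : Sp S} {q₁ : Q ⟶ (yon S).obj B}
    {q₂ : Q ⟶ (yon S).obj D} {f : I → (Q ⟶ F)} (h : IsPow I D φ Q q₁ q₂ f) (T : (Over S)ᵒᵖ) (q : Q.obj.obj T) (i : I) :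
    φ.hom.app T ((f i).hom.app T q) = q₁.hom.app T q := by
  rw [← h.w i]
  rfl

/-- `IsPow` objects are unique. -/
theorem IsPow.exists_iso {I : Type w} {F : Sp S} {φ : F ⟶ (yon S).obj B} {Q Q' : Sp S} {q₁ : Q ⟶ (yon S).obj B}
    {q₂ : Q ⟶ (yon S).obj D} {f : I → (Q ⟶ F)} {q₁' : Q' ⟶ (yon S).obj B}
    {q₂' : Q' ⟶ (yon S).obj D} {f' : I → (Q' ⟶ F)} (h : IsPow I D φ Q q₁ q₂ f) (h' : IsPow I D φ Q' q₁' q₂' f') :
    ∃ e : Q' ≅ Q, e.hom ≫ q₁ = q₁' ∧ e.hom ≫ q₂ = q₂' := by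
  have hex : ∀ (T : (Over S)ᵒᵖ) (q' : Q'.obj.obj T), ∃! q : Q.obj.obj T, q₁.hom.app T q = q₁'.hom.app T q' ∧
      q₂.hom.app T q = q₂'.hom.app T q' ∧ ∀ i, (f i).hom.app T q = (f' i).hom.app T q' := fun T q' =>
    h.univ' T _ _ (fun i => (f' i).hom.app T q') fun i => h'.w' T q' i
  choose g hg hg' using hex
  have nat : ∀ (T T' : (Over S)ᵒᵖ) (t : T ⟶ T') (q' : Q'.obj.obj T), g T' (Q'.obj.map t q') = Q.obj.map t (g T q') := by
    intro T T' t q'
    refine (hg' T' (Q'.obj.map t q') _ ⟨?_, ?_, fun i => ?_⟩).symm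
    · rw [NatTrans.naturality_apply, NatTrans.naturality_apply, (hg T q').1]
    · rw [NatTrans.naturality_apply, NatTrans.naturality_apply, (hg T q').2.1]
    · rw [NatTrans.naturality_apply, NatTrans.naturality_apply, (hg T q').2.2 i]
  have hbij : ∀ T, Function.Bijective (g T) := fun T => by
    constructor
    · intro a a' e
      obtain ⟨q, hq, hq'⟩ := h'.univ' T _ _ (fun i => (f' i).hom.app T a) fun i => h'.w' T a i
      exact (hq' a ⟨rfl, rfl, fun i => rfl⟩).trans (hq' a' ⟨by rw [← (hg T a').1, ← e, (hg T a).1],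
        by rw [← (hg T a').2.1, ← e, (hg T a).2.1], fun i => by rw [← (hg T a').2.2, ← e, (hg T a).2.2]⟩).symm
    · intro q
      obtain ⟨q', hq', -⟩ := h'.univ' T _ _ (fun i => (f i).hom.app T q) fun i => h.w' T q i
      refine ⟨q', (hg' T q' q ⟨hq'.1.symm, hq'.2.1.symm, fun i => (hq'.2.2 i).symm⟩).symm⟩
  let e : Q'.obj ≅ Q.obj := NatIso.ofComponents (fun T => (Equiv.ofBijective _ (hbij T)).toIso) (fun {T T'} t => by
    ext q'
    exact nat T T' t q')
  refine ⟨(fullyFaithfulSheafToPresheaf (J S) (Type (u + 1))).preimageIso e, ?_, ?_⟩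
  · apply ObjectProperty.hom_ext
    ext T q'
    exact (hg T q').1
  · apply ObjectProperty.hom_ext
    ext T q'
    exact (hg T q').2.1

variable {G : Type w} {π : D ⟶ P} {F : Sp S} {φ : F ⟶ (yon S).obj B}

variable (π φ) in
/-- The sheaf of multisections. -/
def wsh : Sp S := ⟨wpsh π φ, isSheaf_wpsh⟩

variable (π φ) in
def toB : wsh π φ ⟶ (yon S).obj B := ObjectProperty.homMk
  { app := fun T => ↾fun x => ⟨WSec.b x⟩
    naturality := fun T T' t => by ext x; rfl }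

variable (π φ) in
def toP : wsh π φ ⟶ (yon S).obj P := ObjectProperty.homMk
  { app := fun T => ↾fun x => ⟨WSec.c x⟩
    naturality := fun T T' t => by ext x; rfl }

/-- `F(∅)` is a point. -/
theorem subsingleton_of_isEmpty (F : Sp S) {T : Over S} (hT : IsEmpty T.left) : Subsingleton (F.obj.obj (op T)) := by
  refine ⟨fun x y => ?_⟩
  have h := K613.Basic.mem_J (S := S) (T := T) (ι := PEmpty.{u + 1}) (fun i => i.elim) (fun i => i.elim)
    (fun i => i.elim) (fun i => i.elim) (fun t => (hT.false t).elim)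
  refine sep F h x y fun V f hf => ?_
  obtain ⟨_, _, _, ⟨i⟩, -⟩ := hf
  exact i.elim

end K748.Weil
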