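import Groth.Agent.AlgSp.K748.Conf
import Groth.Agent.AlgSp.K748.FreeQ
import Groth.Agent.AlgSp.K748.Weil2
import Mathlib.AlgebraicGeometry.Limits

/-!
# The torsor of orderings of the configuration space (helper748)
-/

set_option autoImplicit false
universe u

open CategoryTheory CategoryTheory.Limits AlgebraicGeometry Opposite

namespace K748.Conf

section bs

variable (S : Scheme.{u}) (X : Scheme.{u}) {Y Z : Scheme.{u}}

/-- The product of `S` with an absolute scheme. -/
noncomputable def bs : Over S := Over.mk (prod.fst : S ⨯ X ⟶ S)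

variable {S X}

/-- The map induced by a map of absolute schemes. -/
noncomputable def bsMap (f : X ⟶ Y) : bs S X ⟶ bs S Y := Over.homMk (prod.map (𝟙 S) f) (by
  change prod.map (𝟙 S) f ≫ prod.fst = prod.fst
  rw [prod.map_fst, Category.comp_id])

/-- The absolute point. -/
noncomputable def snd {T : Over S} (a : T ⟶ bs S X) : T.left ⟶ X := a.left ≫ (prod.snd : S ⨯ X ⟶ X)

/-- The map given by an absolute point. -/
noncomputable def pt {T : Over S} (a : T.left ⟶ X) : T ⟶ bs S X := Over.homMk (prod.lift T.hom a) (by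
  change prod.lift T.hom a ≫ prod.fst = T.hom
  rw [prod.lift_fst])

@[simp] theorem snd_pt {T : Over S} (a : T.left ⟶ X) : snd (pt a : T ⟶ bs S X) = a := by
  change prod.lift T.hom a ≫ prod.snd = a
  rw [prod.lift_snd]

theorem snd_comp {T T' : Over S} (c : T' ⟶ T) (a : T ⟶ bs S X) : snd (c ≫ a) = c.left ≫ snd a := by
  unfold snd
  rw [Over.comp_left, Category.assoc]

theorem bsMap_snd (f : X ⟶ Y) : (bsMap (S := S) f).left ≫ (prod.snd : S ⨯ Y ⟶ Y) = (prod.snd : S ⨯ X ⟶ X) ≫ f :=
  prod.map_snd _ _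

theorem snd_bsMap {T : Over S} (f : X ⟶ Y) (a : T ⟶ bs S X) : snd (a ≫ bsMap f) = snd a ≫ f := by
  unfold snd
  rw [Over.comp_left, Category.assoc, Category.assoc]
  exact congrArg (fun z => a.left ≫ z) (bsMap_snd f)

theorem bs_ext {T : Over S} {a b : T ⟶ bs S X} (h : snd a = snd b) : a = b := by
  ext : 1
  apply Limits.prod.hom_ext
  · have h1 := Over.w a
    have h2 := Over.w b
    exact h1.trans h2.symm
  · exact h

theorem isPullback_bs (f : X ⟶ Y) :
    IsPullback (bsMap (S := S) f).left (prod.snd : S ⨯ X ⟶ X) (prod.snd : S ⨯ Y ⟶ Y) f := by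
  have h1 : IsPullback (prod.fst : S ⨯ Y ⟶ S) prod.snd (terminal.from S) (terminal.from Y) :=
    IsPullback.of_isLimit_binaryFan_of_isTerminal (limit.isLimit _) terminalIsTerminal
  have h2 : IsPullback (prod.fst : S ⨯ X ⟶ S) prod.snd (terminal.from S) (terminal.from X) :=
    IsPullback.of_isLimit_binaryFan_of_isTerminal (limit.isLimit _) terminalIsTerminal
  have h3 : (bsMap (S := S) f).left ≫ (prod.fst : S ⨯ Y ⟶ S) = prod.fst := by
    change prod.map (𝟙 S) f ≫ prod.fst = prod.fst
    rw [prod.map_fst, Category.comp_id]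
  have h4 : (bsMap (S := S) f).left ≫ (prod.snd : S ⨯ Y ⟶ Y) = prod.snd ≫ f := prod.map_snd _ _
  refine IsPullback.of_right (h₁₁ := (bsMap (S := S) f).left) (h₁₂ := (prod.fst : S ⨯ Y ⟶ S))
    (h₂₁ := f) (h₂₂ := terminal.from Y) (v₁₁ := (prod.snd : S ⨯ X ⟶ X)) (v₁₂ := prod.snd)
    (v₁₃ := terminal.from S) ?_ h4 h1
  rw [h3]
  have : f ≫ terminal.from Y = terminal.from X := Subsingleton.elim _ _
  rw [this]
  exact h2

theorem bs_smooth (hX : Smooth (terminal.from X)) : Smooth (bs S X).hom := by
  have h2 : IsPullback (prod.fst : S ⨯ X ⟶ S) prod.snd (terminal.from S) (terminal.from X) :=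
    IsPullback.of_isLimit_binaryFan_of_isTerminal (limit.isLimit _) terminalIsTerminal
  exact MorphismProperty.of_isPullback (P := @Smooth) h2.flip hX

end bs

variable (I : Type u) [Fintype I] [DecidableEq I]

/-- The action on the ring of configurations. -/
@[reducible] noncomputable def mulSemiringAction : MulSemiringAction (Equiv.Perm I) (B I) :=
  MulSemiringAction.compHom (B I) (actHom I)

attribute [local instance] mulSemiringAction

theorem smul_def (g : Equiv.Perm I) (b : B I) : g • b = actHom I g b := rfl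

/-- The invariants. -/
noncomputable def A : Subring (B I) where
  carrier := {b | ∀ g : Equiv.Perm I, actHom I g b = b}
  mul_mem' ha hb g := by rw [map_mul, ha, hb]
  one_mem' g := map_one _
  add_mem' ha hb g := by rw [map_add, ha, hb]
  zero_mem' g := map_zero _
  neg_mem' ha g := by rw [map_neg, ha]

instance : Algebra.IsInvariant (A I) (B I) (Equiv.Perm I) where
  isInvariant b hb := ⟨⟨b, hb⟩, rfl⟩

instance : SMulCommClass (Equiv.Perm I) (A I) (B I) where
  smul_comm g a b := by
    change actHom I g (a.1 * b) = a.1 * actHom I g b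
    rw [map_mul, a.2 g]

theorem inj : Function.Injective (algebraMap (A I) (B I)) := Subtype.val_injective

theorem free (g : Equiv.Perm I) (hg : g ≠ 1) (M : Ideal (B I)) (hM : M.IsMaximal) : ∃ b, g • b - b ∉ M := by
  obtain ⟨i, hi⟩ : ∃ i, g i ≠ i := by
    by_contra h
    push Not at h
    exact hg (Equiv.ext h)
  refine ⟨algebraMap (Pol I) (B I) (MvPolynomial.X i), fun h => ?_⟩
  rw [smul_def, actHom_X] at h
  exact hM.ne_top (Ideal.eq_top_of_isUnit_mem _ h (isUnit_sub I hi))

variable (S : Scheme.{u})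

/-- The scheme of ordered configurations over `S`. -/
noncomputable abbrev D : Over S := bs S (Spec (.of (B I)))

/-- The scheme of configurations over `S`. -/
noncomputable abbrev P : Over S := bs S (Spec (.of (A I)))

/-- The quotient map. -/
noncomputable abbrev π : D I S ⟶ P I S := bsMap (Spec.map (CommRingCat.ofHom (algebraMap (A I) (B I))))

theorem etale_π : Etale (π I S).left :=
  MorphismProperty.of_isPullback (P := @Etale) (isPullback_bs _).flip (FreeQ.etale_spec (G := Equiv.Perm I) (free I) (inj I))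

theorem surj_π : Surjective (π I S).left :=
  MorphismProperty.of_isPullback (P := @Surjective) (isPullback_bs _).flip (FreeQ.surj_spec (G := Equiv.Perm I) (inj I))

theorem smooth_D : Smooth (D I S).hom := by
  apply bs_smooth
  have h1 : Smooth (Spec.map (CommRingCat.ofHom (algebraMap (ULift.{u} ℤ) (B I)))) := by
    rw [HasRingHomProperty.Spec_iff (P := @Smooth)]
    exact smooth I
  have h2 : terminal.from (Spec (.of (B I))) = Spec.map (CommRingCat.ofHom (algebraMap (ULift.{u} ℤ) (B I))) ≫
      terminal.from _ := Subsingleton.elim _ _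
  rw [h2]
  have h3 : IsIso (terminal.from (Spec (.of (ULift.{u} ℤ)))) :=
    isIso_of_isTerminal specULiftZIsTerminal terminalIsTerminal _
  infer_instance

/-- The action of a permutation. -/
noncomputable def α (g : Equiv.Perm I) : D I S ⟶ D I S := bsMap (Spec.map (CommRingCat.ofHom (actHom I g)))

variable {S}

theorem sec_snd_α (g : Equiv.Perm I) {T : Over S} (d : T ⟶ D I S) :
    FreeQ.sec (snd (d ≫ α I S g)) = (FreeQ.sec (snd d)).comp (actHom I g) := by
  rw [α, snd_bsMap, FreeQ.sec_specMap]

theorem isEmpty_of_zero {X : Scheme.{u}} (h : (0 : Γ(X, ⊤)) = 1) : IsEmpty X := by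
  have h1 : X.basicOpen (0 : Γ(X, ⊤)) = ⊥ := X.basicOpen_zero ⊤
  have h2 : X.basicOpen (1 : Γ(X, ⊤)) = ⊤ := X.basicOpen_of_isUnit isUnit_one
  rw [h, h2] at h1
  exact ⟨fun x => by
    have : x ∈ (⊥ : X.Opens) := h1 ▸ (show x ∈ (⊤ : X.Opens) from trivial)
    exact this⟩

variable (S) in
/-- The torsor of orderings. -/
noncomputable def tors : K748.Weil.Tors (Equiv.Perm I) (π I S) where
  α := α I S
  α_π g := by
    have h : Spec.map (CommRingCat.ofHom (actHom I g)) ≫ Spec.map (CommRingCat.ofHom (algebraMap (A I) (B I))) =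
        Spec.map (CommRingCat.ofHom (algebraMap (A I) (B I))) := by
      rw [← Spec.map_comp, ← CommRingCat.ofHom_comp]
      congr 2
      ext a
      exact a.2 g
    apply bs_ext
    rw [snd_bsMap]
    have h1 : snd (α I S g) = (prod.snd : S ⨯ Spec (.of (B I)) ⟶ _) ≫ Spec.map (CommRingCat.ofHom (actHom I g)) :=
      bsMap_snd _
    have h2 : snd (π I S) = (prod.snd : S ⨯ Spec (.of (B I)) ⟶ _) ≫
      Spec.map (CommRingCat.ofHom (algebraMap (A I) (B I))) := bsMap_snd _
    refine (congrArg (fun z => z ≫ Spec.map (CommRingCat.ofHom (algebraMap (A I) (B I)))) h1).trans ?_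
    rw [h2]
    refine Eq.trans (Category.assoc _ _ _) ?_
    exact congrArg (fun z => (prod.snd : S ⨯ Spec (.of (B I)) ⟶ _) ≫ z) h
  cover W d₁ d₂ h := by
    have h1 : (FreeQ.sec (B := B I) (snd d₂)).comp (algebraMap (A I) (B I)) =
        (FreeQ.sec (B := B I) (snd d₁)).comp (algebraMap (A I) (B I)) := by
      rw [← FreeQ.sec_specMap, ← FreeQ.sec_specMap, ← snd_bsMap, ← snd_bsMap, h]
    obtain ⟨c, hc, hc'⟩ := Groth.Agent.Sga3.H812.Gal.exists_idem (A := A I) (B := B I) (G := Equiv.Perm I) (inj I)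
      (free I) (FreeQ.sec (B := B I) (snd d₂)) (FreeQ.sec (B := B I) (snd d₁)) h1
    let T' : Equiv.Perm I → Over S := fun g => Over.mk ((W.left.basicOpen (c g)).ι ≫ W.hom)
    let t : ∀ g, T' g ⟶ W := fun g => Over.homMk (W.left.basicOpen (c g)).ι rfl
    refine ⟨Sieve.ofArrows T' t, K613.Basic.mem_J T' t (fun g => inferInstanceAs (Flat (W.left.basicOpen (c g)).ι))
      (fun g => inferInstanceAs (LocallyOfFinitePresentation (W.left.basicOpen (c g)).ι)) (fun x => ?_), ?_⟩
    · obtain ⟨g, hg⟩ := FreeQ.exists_mem_basicOpen c hc x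
      exact ⟨g, ⟨x, hg⟩, rfl⟩
    · rintro V v ⟨_, v', _, ⟨g⟩, rfl⟩
      refine ⟨g, ?_⟩
      rw [Category.assoc, Category.assoc]
      congr 1
      apply bs_ext
      apply FreeQ.sec_ext (B := B I)
      rw [← Category.assoc, sec_snd_α, snd_comp, snd_comp]
      ext r
      change FreeQ.sec (B := B I) ((W.left.basicOpen (c g)).ι ≫ snd d₂) r =
        FreeQ.sec (B := B I) ((W.left.basicOpen (c g)).ι ≫ snd d₁) (actHom I g r)
      rw [FreeQ.sec_comp, FreeQ.sec_comp]
      exact FreeQ.eq_on_basicOpen (c g) (hc' g r)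
  free W d g h e hne := by
    obtain ⟨i, hi⟩ : ∃ i, g i ≠ h i := by
      by_contra hcon
      push Not at hcon
      exact hne (Equiv.ext hcon)
    have h1 : (FreeQ.sec (B := B I) (snd d)).comp (actHom I g) = (FreeQ.sec (B := B I) (snd d)).comp (actHom I h) := by
      rw [← sec_snd_α, ← sec_snd_α, e]
    have h2 := RingHom.congr_fun h1 (algebraMap (Pol I) (B I) (MvPolynomial.X i))
    rw [RingHom.comp_apply, RingHom.comp_apply, actHom_X, actHom_X, ← sub_eq_zero, ← map_sub] at h2
    have h3 := (isUnit_sub I hi).map (FreeQ.sec (B := B I) (snd d))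
    rw [h2] at h3
    exact isEmpty_of_zero (isUnit_zero_iff.1 h3)

end K748.Conf
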