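import Groth.Agent.AlgSp.K748.ConfPt2
import Groth.Agent.AlgSp.K629.Basic
import Groth.Agent.VarietyA.SmoothSepPoint

/-!
# A smooth surjective algebraic space over a field has a point over a finite separable extension (helper748)
-/

set_option autoImplicit false
universe u

open CategoryTheory CategoryTheory.Limits AlgebraicGeometry Opposite

namespace K748.Conf

open AlgSp

theorem exists_sep_point_scheme (k : Type u) [Field k] {W : Scheme.{u}} [Nonempty W] (h : W ⟶ Spec (.of k)) [Smooth h] :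
    ∃ (κ : Type u) (_ : Field κ) (_ : Algebra k κ), FiniteDimensional k κ ∧ Algebra.IsSeparable k κ ∧
      ∃ p : Spec (.of κ) ⟶ W, p ≫ h = Spec.map (CommRingCat.ofHom (algebraMap k κ)) := by
  obtain ⟨y⟩ := (inferInstance : Nonempty W)
  obtain ⟨_, ⟨V, hV, rfl⟩, hyV, -⟩ := W.isBasis_affineOpens.exists_subset_of_mem_open (show y ∈ (⊤ : Set W) from trivial)
    isOpen_univ
  have hV' : IsAffineOpen V := hV
  obtain ⟨φ, hφ⟩ := Spec.map_surjective (hV'.fromSpec ≫ h)
  have hsm : φ.hom.Smooth := by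
    rw [← HasRingHomProperty.Spec_iff (P := @Smooth), hφ]
    infer_instance
  algebraize [φ.hom]
  have hnt : Nontrivial Γ(W, V) := by
    have : Nonempty V := ⟨⟨y, hyV⟩⟩
    infer_instance
  obtain ⟨L, _, _, hL1, hL2, ⟨ψ⟩⟩ := Groth.Agent.VarietyA.SmoothSepPoint.exists_of_smooth k Γ(W, V)
  refine ⟨L, inferInstance, inferInstance, hL1, hL2, Spec.map (CommRingCat.ofHom ψ.toRingHom) ≫ hV'.fromSpec, ?_⟩
  rw [Category.assoc, ← hφ, ← Spec.map_comp]
  congr 1
  ext a
  exact ψ.commutes a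

variable {S : Scheme.{u}}

theorem exists_sep_point {F : Sp S} (hF : IsAlgSpace F) {k : Type u} [Field k] {sk : Spec (.of k) ⟶ S}
    (φ : F ⟶ (yon S).obj (Over.mk sk)) (hφ : LocP @Smooth φ) (hs : IsSurjectiveMor φ) :
    ∃ (κ : Type u) (_ : Field κ) (_ : Algebra k κ), FiniteDimensional k κ ∧ Algebra.IsSeparable k κ ∧
      ∃ ξ : (yon S).obj (Over.mk (Spec.map (CommRingCat.ofHom (algebraMap k κ)) ≫ sk)) ⟶ F,
        ξ ≫ φ = (yon S).map (toK k κ sk) := by
  obtain ⟨W, p, hp1, hp2⟩ := hF.atlas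
  have s : ↥(Over.mk sk).left := IsLocalRing.closedPoint k
  obtain ⟨x, -⟩ := hs (Points.ofPt (𝟙 _) s)
  obtain ⟨w, -⟩ := K629.Basic.ofPt_surjective hp2 x
  obtain ⟨h, hh⟩ := (yon S).map_surjective (p ≫ φ)
  have hsm : Smooth h.left := hφ p (𝟙 _) h hp1 (repWith_id _ _) (by rw [hh, Category.comp_id])
  have : Nonempty W.left := ⟨w⟩
  obtain ⟨κ, _, _, h1, h2, q, hq⟩ := exists_sep_point_scheme k h.left
  let q' : Over.mk (Spec.map (CommRingCat.ofHom (algebraMap k κ)) ≫ sk) ⟶ W := Over.homMk q (by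
    have := Over.w h
    change q ≫ W.hom = Spec.map (CommRingCat.ofHom (algebraMap k κ)) ≫ sk
    rw [← this, ← Category.assoc, hq]
    rfl)
  refine ⟨κ, inferInstance, inferInstance, h1, h2, (yon S).map q' ≫ p, ?_⟩
  rw [Category.assoc, ← hh, ← Functor.map_comp]
  congr 1
  ext : 1
  exact hq

end K748.Conf
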