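import Groth.Agent.AlgSp.K613.Cover
import Groth.Prelude.Def_AlgSpRep

/-!
# Multisections along a morphism `D ⟶ P`: the sheaf (helper748)

For `φ : F ⟶ h_B` and `π : D ⟶ P` the sheaf of triples `(b : T ⟶ B, c : T ⟶ P, s)` with `s` a section of `F` over
`T ×_P D`, compatible with `b`; the section `s` is given as a compatible system on all `W ⟶ T`, `W ⟶ D` agreeing in `P`.
-/

set_option autoImplicit false
universe u

open CategoryTheory CategoryTheory.Limits AlgebraicGeometry Opposite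

namespace K748.Weil

open AlgSp

section Sections

variable {S : Scheme.{u}} (F : Sp S)

theorem map_map {A B C : Over S} (f : B ⟶ A) (g : C ⟶ B) (x : F.obj.obj (op A)) :
    F.obj.map g.op (F.obj.map f.op x) = F.obj.map (g ≫ f).op x := by
  rw [op_comp, Functor.map_comp_apply]

theorem map_id {A : Over S} (x : F.obj.obj (op A)) : F.obj.map (𝟙 A).op x = x := by
  rw [op_id, Functor.map_id_apply]

/-- Sections agreeing locally agree. -/
theorem sep {T : Over S} {R : Sieve T} (hR : R ∈ J S T) (x y : F.obj.obj (op T))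
    (h : ∀ (V : Over S) (f : V ⟶ T), R f → F.obj.map f.op x = F.obj.map f.op y) : x = y :=
  (((isSheaf_iff_isSheaf_of_type _ _).1 F.property).isSeparated R hR).ext fun V f hf => h V f hf

/-- Sections glue. -/
theorem glue {T : Over S} {R : Sieve T} (hR : R ∈ J S T) (x : ∀ (V : Over S) (f : V ⟶ T), R f → F.obj.obj (op V))
    (h : ∀ (V V' : Over S) (g : V' ⟶ V) (f : V ⟶ T) (hf : R f) (hf' : R (g ≫ f)),
      F.obj.map g.op (x V f hf) = x V' (g ≫ f) hf') :
    ∃ y : F.obj.obj (op T), ∀ (V : Over S) (f : V ⟶ T) (hf : R f), F.obj.map f.op y = x V f hf := by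
  obtain ⟨y, hy, -⟩ := (isSheaf_iff_isSheaf_of_type _ _).1 F.property R hR (fun V f hf => x V f hf)
    ((Presieve.compatible_iff_sieveCompatible _).2 fun V V' f g hf => (h V V' g f hf _).symm)
  exact ⟨y, fun V f hf => hy f hf⟩

end Sections

variable {S : Scheme.{u}} {B P D : Over S} (π : D ⟶ P) {F : Sp S} (φ : F ⟶ (yon S).obj B)

/-- A section over `T` of the sheaf of multisections. -/
structure WSec (T : Over S) : Type (u + 1) where
  b : T ⟶ B
  c : T ⟶ P
  s : ∀ (W : Over S) (w : W ⟶ T) (d : W ⟶ D), w ≫ c = d ≫ π → F.obj.obj (op W)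
  hs : ∀ (W : Over S) (w : W ⟶ T) (d : W ⟶ D) (h : w ≫ c = d ≫ π), φ.hom.app (op W) (s W w d h) = ⟨w ≫ b⟩
  nat : ∀ (W W' : Over S) (v : W' ⟶ W) (w : W ⟶ T) (d : W ⟶ D) (h : w ≫ c = d ≫ π)
    (h' : (v ≫ w) ≫ c = (v ≫ d) ≫ π), F.obj.map v.op (s W w d h) = s W' (v ≫ w) (v ≫ d) h'

variable {π φ}

theorem WSec.ext {T : Over S} {x y : WSec π φ T} (hb : x.b = y.b) (hc : x.c = y.c)
    (hs : ∀ (W : Over S) (w : W ⟶ T) (d : W ⟶ D) (h : w ≫ x.c = d ≫ π) (h' : w ≫ y.c = d ≫ π),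
      x.s W w d h = y.s W w d h') : x = y := by
  obtain ⟨b, c, s, h1, h2⟩ := x
  obtain ⟨b', c', s', h1', h2'⟩ := y
  dsimp only at hb hc hs
  subst hb hc
  have : s = s' := by
    funext W w d h
    exact hs W w d h h
  subst this
  rfl

theorem WSec.congr {T : Over S} (x : WSec π φ T) {W : Over S} {w w' : W ⟶ T} {d d' : W ⟶ D} (h : w ≫ x.c = d ≫ π)
    (hw : w = w') (hd : d = d') (h' : w' ≫ x.c = d' ≫ π) : x.s W w d h = x.s W w' d' h' := by
  subst hw hd
  rfl

/-- Restriction. -/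
def WSec.res {T T' : Over S} (t : T' ⟶ T) (x : WSec π φ T) : WSec π φ T' where
  b := t ≫ x.b
  c := t ≫ x.c
  s W w d h := x.s W (w ≫ t) d (by rw [Category.assoc, h])
  hs W w d h := by rw [x.hs, Category.assoc]
  nat W W' v w d h h' := by
    rw [x.nat _ _ v _ _ _ (by rw [Category.assoc, Category.assoc, h, Category.assoc])]
    exact x.congr _ (Category.assoc _ _ _).symm rfl _

variable (π φ) in
/-- The presheaf of multisections. -/
def wpsh : PSp S where
  obj T := WSec π φ T.unop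
  map t := ↾fun x => x.res t.unop
  map_id T := by
    ext x
    exact WSec.ext (Category.id_comp _) (Category.id_comp _) (fun W w d h h' => x.congr _ (Category.comp_id _) rfl _)
  map_comp t t' := by
    ext x
    exact WSec.ext (Category.assoc _ _ _) (Category.assoc _ _ _)
      (fun W w d h h' => x.congr _ (Category.assoc _ _ _).symm rfl _)

theorem isSheaf_wpsh : Presheaf.IsSheaf (J S) (wpsh π φ) := by
  rw [isSheaf_iff_isSheaf_of_type]
  intro T R hR x hx
  rw [Presieve.compatible_iff_sieveCompatible] at hx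
  have hx' : ∀ (V V' : Over S) (g : V' ⟶ V) (f : V ⟶ T) (hf : R f) (hf' : R (g ≫ f)),
      x (g ≫ f) hf' = WSec.res g (x f hf) := fun V V' g f hf hf' => hx f g hf
  obtain ⟨⟨b⟩, hb⟩ := glue ((yon S).obj B) hR (fun V f hf => ⟨(x f hf).b⟩) (fun V V' g f hf hf' => by
    rw [hx' V V' g f hf hf']; rfl)
  obtain ⟨⟨c⟩, hc⟩ := glue ((yon S).obj P) hR (fun V f hf => ⟨(x f hf).c⟩) (fun V V' g f hf hf' => by
    rw [hx' V V' g f hf hf']; rfl)
  replace hb : ∀ (V : Over S) (f : V ⟶ T) (hf : R f), f ≫ b = (x f hf).b := fun V f hf =>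
    congrArg ULift.down (hb V f hf)
  replace hc : ∀ (V : Over S) (f : V ⟶ T) (hf : R f), f ≫ c = (x f hf).c := fun V f hf =>
    congrArg ULift.down (hc V f hf)
  have hRw : ∀ {W : Over S} (w : W ⟶ T), R.pullback w ∈ J S W := fun w => (J S).pullback_stable w hR
  -- the local sections
  have hcond : ∀ {W V : Over S} (w : W ⟶ T) (d : W ⟶ D) (_ : w ≫ c = d ≫ π) (v : V ⟶ W) (hv : R (v ≫ w)),
      𝟙 V ≫ (x (v ≫ w) hv).c = (v ≫ d) ≫ π := fun w d h v hv => by
    rw [Category.id_comp, ← hc, Category.assoc, h, Category.assoc]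
  have hy : ∀ (W : Over S) (w : W ⟶ T) (d : W ⟶ D) (h : w ≫ c = d ≫ π), ∃ y : F.obj.obj (op W),
      ∀ (V : Over S) (v : V ⟶ W) (hv : R (v ≫ w)), F.obj.map v.op y = (x (v ≫ w) hv).s V (𝟙 V) (v ≫ d)
        (hcond w d h v hv) := fun W w d h => by
    refine glue F (hRw w) (fun V v hv => (x (v ≫ w) hv).s V (𝟙 V) (v ≫ d) (hcond w d h v hv)) ?_
    intro V V' g v hv hv'
    have hv2 : R (g ≫ v ≫ w) := by rw [← Category.assoc]; exact hv'
    have e1 : (x (v ≫ w) hv).s V' (g ≫ 𝟙 V) (g ≫ v ≫ d) (by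
        simp only [Category.assoc, hcond w d h v hv]) =
        F.obj.map g.op ((x (v ≫ w) hv).s V (𝟙 V) (v ≫ d) (hcond w d h v hv)) := ((x (v ≫ w) hv).nat _ _ _ _ _ _ _).symm
    rw [← e1]
    have key : ∀ (f : V' ⟶ T) (hf : R f) (e : g ≫ v ≫ w = f) (h3 : 𝟙 V' ≫ (x f hf).c = ((g ≫ v) ≫ d) ≫ π),
        (x (v ≫ w) hv).s V' (g ≫ 𝟙 V) (g ≫ v ≫ d) (by
        simp only [Category.assoc, hcond w d h v hv]) = (x f hf).s V' (𝟙 V') ((g ≫ v) ≫ d) h3 := by
      intro f hf e h3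
      subst e
      have h4 := hx' V V' g (v ≫ w) hv hf
      have h5 : ∀ (z : WSec π φ V') (_ : x (g ≫ v ≫ w) hf = z) (h6 : 𝟙 V' ≫ z.c = ((g ≫ v) ≫ d) ≫ π),
          (x (g ≫ v ≫ w) hf).s V' (𝟙 V') ((g ≫ v) ≫ d) h3 = z.s V' (𝟙 V') ((g ≫ v) ≫ d) h6 := by
        intro z hz h6
        subst hz
        rfl
      rw [h5 _ h4 (by rw [← h4]; exact h3)]
      exact WSec.congr _ _ (by rw [Category.comp_id, Category.id_comp]) (Category.assoc _ _ _).symm _
    exact key _ hv' (Category.assoc _ _ _).symm _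
  choose s hs using hy
  -- uniqueness of the local sections
  have hu : ∀ (W : Over S) (w : W ⟶ T) (y y' : F.obj.obj (op W)),
      (∀ (V : Over S) (v : V ⟶ W) (_ : R (v ≫ w)), F.obj.map v.op y = F.obj.map v.op y') → y = y' :=
    fun W w y y' h => sep F (hRw w) y y' fun V v hv => h V v hv
  have hsx : ∀ (V : Over S) (f : V ⟶ T) (hf : R f) (W : Over S) (w : W ⟶ V) (d : W ⟶ D) (h : w ≫ (x f hf).c = d ≫ π)
      (h' : (w ≫ f) ≫ c = d ≫ π), (x f hf).s W w d h = s W (w ≫ f) d h' := by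
    intro V f hf W w d h h'
    have hwf : R (w ≫ f) := R.downward_closed hf w
    have h1 := hs W (w ≫ f) d h' W (𝟙 W) (by rw [Category.id_comp]; exact hwf)
    rw [map_id] at h1
    rw [h1]
    have key : ∀ (f' : W ⟶ T) (hf' : R f') (e : w ≫ f = f') (h3 : 𝟙 W ≫ (x f' hf').c = (𝟙 W ≫ d) ≫ π),
        (x f hf).s W w d h = (x f' hf').s W (𝟙 W) (𝟙 W ≫ d) h3 := by
      intro f' hf' e h3
      subst e
      have h4 := hx' V W w f hf hf'
      have h5 : ∀ (z : WSec π φ W) (_ : x (w ≫ f) hf' = z) (h6 : 𝟙 W ≫ z.c = (𝟙 W ≫ d) ≫ π),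
          (x (w ≫ f) hf').s W (𝟙 W) (𝟙 W ≫ d) h3 = z.s W (𝟙 W) (𝟙 W ≫ d) h6 := by
        intro z hz h6
        subst hz
        rfl
      rw [h5 _ h4 (by rw [← h4]; exact h3)]
      exact WSec.congr _ _ (Category.id_comp _).symm (Category.id_comp _).symm _
    exact key _ _ (Category.id_comp _).symm _
  let t : WSec π φ T :=
    { b := b
      c := c
      s := s
      hs := fun W w d h => by
        refine sep ((yon S).obj B) (hRw w) _ _ fun V v hv => ?_
        rw [← NatTrans.naturality_apply, hs W w d h V v hv, WSec.hs]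
        change (⟨_⟩ : ULift _) = ⟨v ≫ w ≫ b⟩
        rw [Category.id_comp, ← hb, Category.assoc]
      nat := fun W W' v w d h h' => by
        refine hu W' (v ≫ w) _ _ fun V v' hv' => ?_
        have hv2 : R ((v' ≫ v) ≫ w) := by rw [Category.assoc]; exact hv'
        rw [map_map, hs W w d h V (v' ≫ v) hv2, hs W' (v ≫ w) (v ≫ d) h' V v' hv']
        have key : ∀ (f f' : V ⟶ T) (hf : R f) (hf' : R f') (d₁ d₂ : V ⟶ D) (_ : f = f') (_ : d₁ = d₂)
            (h3 : 𝟙 V ≫ (x f hf).c = d₁ ≫ π) (h4 : 𝟙 V ≫ (x f' hf').c = d₂ ≫ π),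
            (x f hf).s V (𝟙 V) d₁ h3 = (x f' hf').s V (𝟙 V) d₂ h4 := by
          rintro f f' hf hf' d₁ d₂ rfl rfl h3 h4
          rfl
        exact key _ _ _ _ _ _ (Category.assoc _ _ _) (Category.assoc _ _ _) _ _ }
  refine ⟨t, fun V f hf => ?_, fun t' ht' => ?_⟩
  · exact (WSec.ext (hb V f hf).symm (hc V f hf).symm (fun W w d h h' => hsx V f hf W w d h
      (by rw [Category.assoc]; exact h'))).symm
  · have ht : ∀ (V : Over S) (f : V ⟶ T) (hf : R f), WSec.res f t' = x f hf := fun V f hf => ht' f hf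
    have hb' : t'.b = b := congrArg ULift.down (sep ((yon S).obj B) hR ⟨t'.b⟩ ⟨b⟩ fun V f hf => by
      change (⟨f ≫ t'.b⟩ : ULift _) = ⟨f ≫ b⟩
      rw [hb V f hf, ← ht V f hf]
      rfl)
    have hc' : t'.c = c := congrArg ULift.down (sep ((yon S).obj P) hR ⟨t'.c⟩ ⟨c⟩ fun V f hf => by
      change (⟨f ≫ t'.c⟩ : ULift _) = ⟨f ≫ c⟩
      rw [hc V f hf, ← ht V f hf]
      rfl)
    refine WSec.ext hb' hc' fun W w d h h' => ?_
    refine hu W w _ _ fun V v hv => ?_
    have h1 : (v ≫ w) ≫ t'.c = (v ≫ d) ≫ π := by rw [Category.assoc, h, Category.assoc]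
    rw [t'.nat W V v w d h h1]
    change _ = F.obj.map v.op (s W w d h')
    rw [hs W w d h' V v hv]
    have h5 : ∀ (z : WSec π φ V) (_ : z = x (v ≫ w) hv) (h6 : 𝟙 V ≫ z.c = (v ≫ d) ≫ π),
        z.s V (𝟙 V) (v ≫ d) h6 = (x (v ≫ w) hv).s V (𝟙 V) (v ≫ d) (hcond w d h' v hv) := by
      intro z hz h6
      subst hz
      rfl
    rw [← h5 _ (ht V (v ≫ w) hv) (by rw [ht V (v ≫ w) hv]; exact hcond w d h' v hv)]
    exact (t'.congr _ (Category.id_comp _) rfl _).symm

end K748.Weil
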