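import Groth.Agent.AlgSp.K748.Weil2

/-!
# Multisections along a torsor `D ⟶ P`: the base change to `D` is a fibre power (helper748)
-/

set_option autoImplicit false
universe w u

open CategoryTheory CategoryTheory.Limits AlgebraicGeometry Opposite

namespace K748.Weil

open AlgSp

variable {S : Scheme.{u}} {B P D : Over S} {G : Type w} {π : D ⟶ P} {F : Sp S} {φ : F ⟶ (yon S).obj B}

section Exists

variable (τ : Tors G π)

/-- The sieve of the torsor. -/
def Tors.sieve {W : Over S} (d₁ d₂ : W ⟶ D) : Sieve W where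
  arrows V v := ∃ g, v ≫ d₂ = v ≫ d₁ ≫ τ.α g
  downward_closed := by
    rintro V V' v ⟨g, hg⟩ v'
    exact ⟨g, by rw [Category.assoc, hg, Category.assoc]⟩

theorem Tors.sieve_mem {W : Over S} (d₁ d₂ : W ⟶ D) (h : d₁ ≫ π = d₂ ≫ π) : τ.sieve d₁ d₂ ∈ J S W := by
  obtain ⟨R, hR, h'⟩ := τ.cover W d₁ d₂ h
  exact (J S).superset_covering (fun V v hv => h' V v hv) hR

theorem Tors.map_eq {T V : Over S} (x : G → F.obj.obj (op T)) (t : V ⟶ T) (d : V ⟶ D) (g g' : G)
    (h : d ≫ τ.α g = d ≫ τ.α g') : F.obj.map t.op (x g) = F.obj.map t.op (x g') := by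
  by_cases e : g = g'
  · rw [e]
  · have := subsingleton_of_isEmpty F (τ.free V d g g' h e)
    exact Subsingleton.elim _ _

theorem exists_local {T : Over S} (d : T ⟶ D) (x : G → F.obj.obj (op T)) (W : Over S) (t : W ⟶ T) (e : W ⟶ D)
    (h : t ≫ d ≫ π = e ≫ π) : ∃ y : F.obj.obj (op W), ∀ (V : Over S) (v : V ⟶ W) (g : G),
      v ≫ e = v ≫ t ≫ d ≫ τ.α g → F.obj.map v.op y = F.obj.map (v ≫ t).op (x g) := by
  obtain ⟨y, hy⟩ := glue F (τ.sieve_mem (t ≫ d) e (by rw [Category.assoc, h]))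
    (fun V v hv => F.obj.map (v ≫ t).op (x hv.choose)) (fun V V' g' v hv hv' => by
      rw [map_map, ← Category.assoc]
      refine τ.map_eq x _ (g' ≫ v ≫ t ≫ d) _ _ ?_
      have h1 := hv.choose_spec
      have h2 := hv'.choose_spec
      simp only [Category.assoc] at h1 h2 ⊢
      rw [← h2, ← h1])
  refine ⟨y, fun V v g hg => ?_⟩
  have hv : τ.sieve (t ≫ d) e v := ⟨g, by rw [hg, Category.assoc]⟩
  rw [hy V v hv]
  refine τ.map_eq x _ (v ≫ t ≫ d) _ _ ?_
  have h1 := hv.choose_spec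
  simp only [Category.assoc] at h1 hg ⊢
  rw [← hg, ← h1]

theorem exists_wsec {T : Over S} (b : T ⟶ B) (d : T ⟶ D) (x : G → F.obj.obj (op T))
    (hx : ∀ g, φ.hom.app (op T) (x g) = ⟨b⟩) :
    ∃ y : WSec π φ T, y.b = b ∧ y.c = d ≫ π ∧ ∀ (g : G) (h : 𝟙 T ≫ y.c = (d ≫ τ.α g) ≫ π),
      y.s T (𝟙 T) (d ≫ τ.α g) h = x g := by
  choose s hs using fun (W : Over S) (t : W ⟶ T) (e : W ⟶ D) (h : t ≫ d ≫ π = e ≫ π) => exists_local τ d x W t e h
  have hu : ∀ (W : Over S) (t : W ⟶ T) (e : W ⟶ D) (_ : t ≫ d ≫ π = e ≫ π) (A : Sp S) (y y' : A.obj.obj (op W)),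
      (∀ (V : Over S) (v : V ⟶ W) (g : G), v ≫ e = v ≫ t ≫ d ≫ τ.α g → A.obj.map v.op y = A.obj.map v.op y') →
      y = y' := fun W t e h A y y' h' => by
    refine sep A (τ.sieve_mem (t ≫ d) e (by rw [Category.assoc, h])) y y' ?_
    rintro V v ⟨g, hg⟩
    exact h' V v g (by rw [hg, Category.assoc])
  refine ⟨{ b := b
            c := d ≫ π
            s := s
            hs := fun W t e h => ?_
            nat := fun W W' v t e h h' => ?_ }, rfl, rfl, fun g h => ?_⟩
  · refine hu W t e h _ _ _ fun V v g hg => ?_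
    rw [← NatTrans.naturality_apply, hs W t e h V v g hg, NatTrans.naturality_apply, hx]
    change (⟨(v ≫ t) ≫ b⟩ : ULift _) = ⟨v ≫ t ≫ b⟩
    rw [Category.assoc]
  · refine hu W' (v ≫ t) (v ≫ e) h' _ _ _ fun V v' g hg => ?_
    rw [map_map, hs W t e h V (v' ≫ v) g (by simpa only [Category.assoc] using hg),
      hs W' (v ≫ t) (v ≫ e) h' V v' g (by simpa only [Category.assoc] using hg), Category.assoc]
  · have h1 := hs T (𝟙 T) (d ≫ τ.α g) h T (𝟙 T) g (by simp)
    rw [map_id] at h1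
    change s T (𝟙 T) (d ≫ τ.α g) h = x g
    rw [h1, Category.id_comp, map_id]

theorem wsec_ext {T : Over S} (d : T ⟶ D) (y y' : WSec π φ T) (hb : y.b = y'.b) (hc : y.c = d ≫ π) (hc' : y'.c = d ≫ π)
    (h : ∀ (g : G) (h : 𝟙 T ≫ y.c = (d ≫ τ.α g) ≫ π) (h' : 𝟙 T ≫ y'.c = (d ≫ τ.α g) ≫ π),
      y.s T (𝟙 T) (d ≫ τ.α g) h = y'.s T (𝟙 T) (d ≫ τ.α g) h') : y = y' := by
  refine WSec.ext hb (hc.trans hc'.symm) fun W t e h1 h2 => ?_
  refine sep F (τ.sieve_mem (t ≫ d) e (by rw [Category.assoc, ← hc, h1])) _ _ ?_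
  rintro V v ⟨g, hg⟩
  have key : ∀ (z : WSec π φ T) (hz : z.c = d ≫ π) (h3 : t ≫ z.c = e ≫ π)
      (h4 : 𝟙 T ≫ z.c = (d ≫ τ.α g) ≫ π), F.obj.map v.op (z.s W t e h3) =
        F.obj.map (v ≫ t).op (z.s T (𝟙 T) (d ≫ τ.α g) h4) := by
    intro z hz h3 h4
    rw [z.nat W V v t e h3 (by rw [Category.assoc, h3, Category.assoc]),
      z.nat T V (v ≫ t) (𝟙 T) (d ≫ τ.α g) h4 (by simp only [Category.assoc] at h4 ⊢; rw [h4])]
    exact z.congr _ (Category.comp_id _).symm (by rw [hg]; simp only [Category.assoc]) _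
  have h5 : ∀ (z : WSec π φ T) (hz : z.c = d ≫ π), 𝟙 T ≫ z.c = (d ≫ τ.α g) ≫ π := fun z hz => by
    rw [Category.id_comp, hz, Category.assoc, τ.α_π]
  rw [key y hc h1 (h5 y hc), key y' hc' h2 (h5 y' hc'), h]

end Exists

section Base

variable (τ : Tors G π) {X : Sp S} {fst : X ⟶ wsh π φ} {snd : X ⟶ (yon S).obj D}
  (sq : IsPullback fst snd (toP π φ) ((yon S).map π))

/-- The underlying multisection. -/
def wof (fst : X ⟶ wsh π φ) (T : (Over S)ᵒᵖ) (p : X.obj.obj T) : WSec π φ T.unop := fst.hom.app T p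

/-- The underlying point of `D`. -/
def dof (snd : X ⟶ (yon S).obj D) (T : (Over S)ᵒᵖ) (p : X.obj.obj T) : T.unop ⟶ D := (snd.hom.app T p).down

include sq in
theorem wof_c (T : (Over S)ᵒᵖ) (p : X.obj.obj T) : (wof fst T p).c = dof snd T p ≫ π := by
  have h1 : (toP π φ).hom.app T (fst.hom.app T p) = ((yon S).map π).hom.app T (snd.hom.app T p) := by
    rw [← app_comp, ← app_comp, sq.w]
  exact congrArg ULift.down h1

include sq in
theorem wof_cond (g : G) (T : (Over S)ᵒᵖ) (p : X.obj.obj T) :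
    𝟙 T.unop ≫ (wof fst T p).c = (dof snd T p ≫ τ.α g) ≫ π := by
  rw [Category.id_comp, wof_c sq, Category.assoc, τ.α_π]

/-- The components. -/
def comp (g : G) : X ⟶ F := ObjectProperty.homMk
  { app := fun T => ↾fun p => (wof fst T p).s T.unop (𝟙 _) (dof snd T p ≫ τ.α g) (wof_cond τ sq g T p)
    naturality := fun T T' t => by
      ext p
      change (wof fst T' (X.obj.map t p)).s T'.unop (𝟙 _) (dof snd T' (X.obj.map t p) ≫ τ.α g) _ =
        F.obj.map t ((wof fst T p).s T.unop (𝟙 _) (dof snd T p ≫ τ.α g) _)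
      have h1 : wof fst T' (X.obj.map t p) = WSec.res t.unop (wof fst T p) := by
        rw [wof, NatTrans.naturality_apply]
        rfl
      have h2 : dof snd T' (X.obj.map t p) = t.unop ≫ dof snd T p := by
        rw [dof, NatTrans.naturality_apply]
        rfl
      have h3 : F.obj.map t ((wof fst T p).s T.unop (𝟙 _) (dof snd T p ≫ τ.α g) (wof_cond τ sq g T p)) =
        (wof fst T p).s T'.unop (t.unop ≫ 𝟙 _) (t.unop ≫ dof snd T p ≫ τ.α g) (by
          rw [Category.assoc, wof_cond τ sq g T p]; simp only [Category.assoc]) := (wof fst T p).nat _ _ t.unop _ _ _ _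
      rw [h3]
      have h5 : ∀ (z : WSec π φ T'.unop) (e : T'.unop ⟶ D) (_ : wof fst T' (X.obj.map t p) = z)
          (_ : dof snd T' (X.obj.map t p) = e) (h6 : 𝟙 _ ≫ z.c = (e ≫ τ.α g) ≫ π),
          (wof fst T' (X.obj.map t p)).s T'.unop (𝟙 _) (dof snd T' (X.obj.map t p) ≫ τ.α g)
            (wof_cond τ sq g T' _) = z.s T'.unop (𝟙 _) (e ≫ τ.α g) h6 := by
        intro z e hz he h6
        subst hz he
        rfl
      rw [h5 _ _ h1 h2 (by rw [← h1, ← h2]; exact wof_cond τ sq g T' _)]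
      refine WSec.congr (wof fst T p) _ ?_ ?_ _
      · rw [Category.comp_id, Category.id_comp]
      · rw [Category.assoc] }

theorem isPow : IsPow G D φ X (fst ≫ toB π φ) snd (comp τ sq) where
  w g := by
    apply ObjectProperty.hom_ext
    ext T p
    refine ((wof fst T p).hs _ _ _ _).trans ?_
    change (⟨𝟙 _ ≫ (wof fst T p).b⟩ : ULift _) = ⟨(wof fst T p).b⟩
    rw [Category.id_comp]
  univ T b d x hx := by
    obtain ⟨y, hy1, hy2, hy3⟩ := exists_wsec τ b d x hx
    obtain ⟨p, hp1, hp2⟩ := K609.Points.exists_section_of_isPullback sq T y ⟨d⟩ (congrArg ULift.up hy2)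
    have hp1' : wof fst (op T) p = y := hp1
    have hp2' : dof snd (op T) p = d := congrArg ULift.down hp2
    refine ⟨p, ⟨?_, hp2, fun g => ?_⟩, fun p' ⟨h4, h5, h6⟩ => ?_⟩
    · change (⟨(wof fst (op T) p).b⟩ : ULift _) = ⟨b⟩
      rw [hp1', hy1]
    · change (wof fst (op T) p).s T (𝟙 _) (dof snd (op T) p ≫ τ.α g) _ = x g
      have h5 : ∀ (z : WSec π φ T) (e : T ⟶ D) (_ : wof fst (op T) p = z)
          (_ : dof snd (op T) p = e) (h6 : 𝟙 _ ≫ z.c = (e ≫ τ.α g) ≫ π),
          (wof fst (op T) p).s T (𝟙 _) (dof snd (op T) p ≫ τ.α g)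
            (wof_cond τ sq g (op T) _) = z.s T (𝟙 _) (e ≫ τ.α g) h6 := by
        intro z e hz he h6
        subst hz he
        rfl
      rw [h5 _ _ hp1' hp2' (by rw [hy2, Category.id_comp, Category.assoc, τ.α_π]), hy3]
    · have hd' : dof snd (op T) p' = d := congrArg ULift.down h5
      have hb' : (wof fst (op T) p').b = b := congrArg ULift.down h4
      apply K609.Points.section_ext_of_isPullback sq T
      · rw [hp1]
        change wof fst (op T) p' = y
        refine wsec_ext τ d _ _ (hb'.trans hy1.symm) (by rw [wof_c sq, hd']) hy2 fun g h h' => ?_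
        rw [hy3, ← h6 g]
        have h7 : ∀ (e : T ⟶ D) (he : dof snd (op T) p' = e) (h8 : 𝟙 T ≫ (wof fst (op T) p').c = (e ≫ τ.α g) ≫ π),
            (wof fst (op T) p').s T (𝟙 T) (e ≫ τ.α g) h8 = (comp τ sq g).hom.app (op T) p' := by
          intro e he h8
          subst he
          rfl
        exact h7 d hd' _
      · rw [h5, hp2]

end Base

end K748.Weil

namespace K748.Weil

open AlgSp

variable {S : Scheme.{u}} {B P D : Over S} {G : Type w} {π : D ⟶ P} {F : Sp S} {φ : F ⟶ (yon S).obj B}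

theorem locP_of_iso {P' : MorphismProperty Scheme.{u}} {X Y Z : Sp S} (e : X ≅ Y) {f : Y ⟶ Z} (hf : LocP P' f) :
    LocP P' (e.hom ≫ f) := fun U V a b k ha hb w => by
  refine hf (a ≫ e.hom) b k ?_ hb (by rw [Category.assoc]; exact w)
  exact (MorphismProperty.cancel_right_of_respectsIso (RepWith @Etale) a e.hom).2 ha

/-- The sheaf of multisections of a smooth algebraic space over `B` along a torsor `D ⟶ P` with `D` smooth over `S` is an
algebraic space, smooth over `B`. -/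
theorem isAlgSpace_wsh [Finite G] (τ : Tors G π) (hπ : Etale π.left) (hπ' : Surjective π.left) (hD : Smooth D.hom)
    (hF : IsAlgSpace F) (hφ : LocP @Smooth φ) : IsAlgSpace (wsh π φ) ∧ LocP @Smooth (toB π φ) := by
  have sq := IsPullback.of_hasPullback (toP π φ) ((yon S).map π)
  obtain ⟨Q, q₁, q₂, f, hQ, hq, hpow⟩ := exists_pow hF φ hφ hD G
  obtain ⟨e, he, -⟩ := hpow.exists_iso (isPow τ sq)
  have hX : IsAlgSpace (pullback (toP π φ) ((yon S).map π)) := hQ.of_iso e.symm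
  have h1 : LocP @Smooth (pullback.fst (toP π φ) ((yon S).map π) ≫ toB π φ) := by
    rw [← he]
    exact locP_of_iso e hq
  have h2 : RepWith @Etale (pullback.fst (toP π φ) ((yon S).map π)) :=
    MorphismProperty.of_isPullback (P := RepWith @Etale) sq.flip ((repWith_yon_map_iff _ _).2 hπ)
  have h3 : RepWith @Surjective (pullback.fst (toP π φ) ((yon S).map π)) :=
    MorphismProperty.of_isPullback (P := RepWith @Surjective) sq.flip ((repWith_yon_map_iff _ _).2 hπ')
  exact ⟨K594.Bootstrap.isAlgSpace_of_etale_of_isAlgSpace hX _ h2 h3,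
    K597.locP_of_source K597.etLoc_smooth hX.hasAtlas (IsAlgSpace.yon_obj B).hasAtlas h2 h3 h1⟩

end K748.Weil
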